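import Cfsg.Agent.Lib.LieRigid.Criterion
import Cfsg.Prelude.Def_EvenType

/-!
Automorphisms of order two fixing a Sylow subgroup pointwise: criteria for being inner.
-/

set_option autoImplicit false

namespace CfsgLib.InnerFix

open CfsgLib.LieRigid

variable {G H : Type*} [Group G] [Group H] {p : ℕ}

/-- Involutory automorphisms fixing a Sylow `p`-subgroup pointwise are inner. -/
def InnerFix (p : ℕ) (G : Type*) [Group G] : Prop :=
  ∀ α : MulAut G, α * α = 1 → ∀ S : Sylow p G, (∀ x ∈ (S : Subgroup G), α x = x) →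
    α ∈ (MulAut.conj (G := G)).range

theorem InnerFix.of_equiv [Fact p.Prime] [Finite G] (h : InnerFix p H) (e : G ≃* H) : InnerFix p G := by
  intro α hα S hfix
  haveI : Finite H := Finite.of_equiv G e.toEquiv
  have hS : ¬ p ∣ ((S : Subgroup G).map e.toMonoidHom).index := by
    rw [Subgroup.index_map_of_bijective (f := e.toMonoidHom) e.bijective]
    exact S.not_dvd_index
  obtain ⟨k, hk⟩ := h ((e.symm.trans α).trans e)
    (MulEquiv.ext fun x => by
      have := congrArg (fun β : MulAut G => e (β (e.symm x))) hα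
      simpa using this)
    ((S.isPGroup'.map e.toMonoidHom).toSylow hS) (by
      rintro x ⟨y, hy, rfl⟩
      show e (α (e.symm (e y))) = e y
      rw [e.symm_apply_apply, hfix y hy])
  refine ⟨e.symm k, MulEquiv.ext fun x => e.injective ?_⟩
  have := congrArg (fun β : MulAut H => β (e x)) hk
  simpa using this

/-- It suffices to treat automorphisms fixing a given `p`-subgroup. -/
theorem InnerFix.of_key [Finite G] [Fact p.Prime] (Q : Subgroup G) (hQ : IsPGroup p Q)
    (key : ∀ β : MulAut G, β * β = 1 → (∀ z ∈ Q, β z = z) → β ∈ (MulAut.conj (G := G)).range) :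
    InnerFix p G := by
  intro α hα U hfix
  obtain ⟨P, hP⟩ := hQ.exists_le_sylow
  obtain ⟨g, hg⟩ := MulAction.exists_smul_eq G U P
  set c := MulAut.conj g
  have h1 : c * α * c⁻¹ ∈ (MulAut.conj (G := G)).range := key _
    (by rw [show c * α * c⁻¹ * (c * α * c⁻¹) = c * (α * α) * c⁻¹ by group, hα, mul_one, mul_inv_cancel])
    fun z hz => by
      have hzP := hP hz
      rw [← hg, Sylow.coe_subgroup_smul] at hzP
      obtain ⟨y, hy, rfl⟩ := hzP
      show c (α (c⁻¹ (c y))) = c y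
      rw [MulAut.inv_apply_self, hfix y hy]
  have h2 : c ∈ (MulAut.conj (G := G)).range := ⟨g, rfl⟩
  have h3 := mul_mem (mul_mem (inv_mem h2) h1) h2
  rwa [show c⁻¹ * (c * α * c⁻¹) * c = α by group] at h3

theorem map_eq_self {Q : Subgroup G} {α : MulAut G} (hfix : ∀ z ∈ Q, α z = z) :
    Q.map α.toMonoidHom = Q := by
  ext x
  constructor
  · rintro ⟨y, hy, rfl⟩
    show α y ∈ Q
    rwa [hfix y hy]
  · exact fun hx => ⟨x, hx, hfix x hx⟩

/-- The image of the opposite group. -/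
theorem exists_cj (Q Q' : Subgroup G) (gQ : G) (hQ' : cj gQ Q = Q')
    (hopp : ∀ g : G, (∀ z ∈ Q, cj z (cj g Q) = cj g Q → z = 1) → ∃ z ∈ Q, cj g Q = cj z Q')
    (hN : ∀ z ∈ Q, cj z Q' = Q' → z = 1) (α : MulAut G) (hfix : ∀ z ∈ Q, α z = z) :
    ∃ z ∈ Q, Q'.map α.toMonoidHom = cj z Q' := by
  have himg : Q'.map α.toMonoidHom = cj (α gQ) Q := by
    rw [← hQ', map_cj, map_eq_self hfix]; rfl
  obtain ⟨z, hz, hze⟩ := hopp (α gQ) fun w hw hwe => by
    refine hN w hw (Subgroup.map_injective (f := α.toMonoidHom) α.injective ?_)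
    rw [map_cj, show α.toMonoidHom w = w from hfix w hw, himg, hwe]
  exact ⟨z, hz, himg.trans hze⟩

/-- The remaining automorphism fixing both groups. -/
theorem eq_one_of_stab (Q Q' : Subgroup G) (hN' : ∀ z ∈ Q', cj z Q = Q → z = 1)
    (q0 : G) (hq0 : q0 ∈ Q') (q1 : G) (hq1 : q1 ∈ Q) (hq01 : cj q0 Q = cj q1 Q')
    (hgen : Q ⊔ Q' = ⊤) (α : MulAut G) (hfix : ∀ z ∈ Q, α z = z)
    (hQ'α : Q'.map α.toMonoidHom = Q') : α = 1 := by
  have hq0α : α q0 = q0 := by
    have hmem : q0⁻¹ * α q0 ∈ Q' := by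
      refine mul_mem (inv_mem hq0) ?_
      rw [← hQ'α]
      exact Subgroup.mem_map_of_mem _ hq0
    have h : cj q0 Q = cj (α q0) Q := by
      conv_rhs => rw [← map_eq_self hfix, show α q0 = α.toMonoidHom q0 from rfl, ← map_cj, hq01, map_cj,
        hQ'α, show α.toMonoidHom q1 = q1 from hfix q1 hq1]
      exact hq01
    exact (inv_mul_eq_one.mp (hN' _ hmem (cj_inv_mul h.symm))).symm
  have hgfix : α (q1⁻¹ * q0) = q1⁻¹ * q0 := by rw [map_mul, map_inv, hfix q1 hq1, hq0α]
  have hfix' : ∀ x ∈ Q', α x = x := by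
    intro x hx
    rw [← cj_inv_mul hq01, mem_cj] at hx
    have h := hfix _ hx
    rw [map_mul, map_mul, map_inv, hgfix] at h
    exact mul_left_cancel (mul_right_cancel h)
  refine MulEquiv.ext fun x => ?_
  have hle : Q ⊔ Q' ≤ (α : G →* G).eqLocus (MonoidHom.id G) := sup_le hfix hfix'
  exact hle (hgen ▸ Subgroup.mem_top x)

/-- A central correcting element makes the automorphism inner. -/
theorem mem_range_of_central (Q Q' : Subgroup G) (hN' : ∀ z ∈ Q', cj z Q = Q → z = 1)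
    (q0 : G) (hq0 : q0 ∈ Q') (q1 : G) (hq1 : q1 ∈ Q) (hq01 : cj q0 Q = cj q1 Q')
    (hgen : Q ⊔ Q' = ⊤) (α : MulAut G) (hfix : ∀ z ∈ Q, α z = z) (z : G)
    (hzc : ∀ x ∈ Q, z * x = x * z) (hz : Q'.map α.toMonoidHom = cj z Q') :
    α ∈ (MulAut.conj (G := G)).range := by
  have h1 := eq_one_of_stab Q Q' hN' q0 hq0 q1 hq1 hq01 hgen (MulAut.conj z⁻¹ * α)
    (fun x hx => by
      rw [MulAut.mul_apply, hfix x hx, MulAut.conj_apply, inv_inv, mul_assoc, ← hzc x hx,
        inv_mul_cancel_left])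
    (by
      rw [show (MulAut.conj z⁻¹ * α : MulAut G).toMonoidHom = (MulAut.conj z⁻¹).toMonoidHom.comp α.toMonoidHom
        from rfl, ← Subgroup.map_map, hz]
      show cj z⁻¹ (cj z Q') = Q'
      rw [← cj_mul, inv_mul_cancel, cj_one])
  refine ⟨z, ?_⟩
  have h2 := eq_inv_of_mul_eq_one_right h1
  rw [h2, map_inv, inv_inv]

end CfsgLib.InnerFix
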