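import Cfsg.Agent.Lib.LieRigid.Polar
import Cfsg.Agent.Lib.InnerFix.Criterion

/-!
Groups of isometries in characteristic two: automorphisms fixing a radical pointwise.
-/

set_option autoImplicit false
set_option linter.unusedSectionVars false

namespace CfsgLib.LieRigid

open CfsgLib.InnerFix

namespace SGeo

variable {F V G W : Type*} [Field F] [AddCommGroup V] [Module F V] [Group G] [Group W]
  (S : SGeo F V G W) [Finite F] [CharP F 2]

theorem ε_one : S.P.ε = 1 := by
  haveI : Fact (Nat.Prime 2) := ⟨Nat.prime_two⟩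
  have h : (S.P.ε - 1) * (S.P.ε - 1) = 0 := by
    linear_combination S.P.εε + (1 - S.P.ε) * (CharTwo.two_eq_zero (R := F))
  exact sub_eq_zero.mp (mul_self_eq_zero.mp h)

theorem hyp_swap {e f : V} (H : S.P.Hyp e f) : S.P.Hyp f e := by
  have := H.rev
  rwa [S.ε_one, one_smul] at this

theorem h_point {e f : V} (H : S.P.Hyp e f) {b : V} (hb : S.P.Perp e f b) (t : F) :
    S.P.h (f + b + t • e) e = 1 ∧ S.P.h (f + b + t • e) f = t ∧
      S.P.h (f + b + t • e) (f + b + t • e) = S.P.τ t + S.P.h b b + t := by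
  simp only [S.P.add_left, S.P.add_right, S.P.smul_left, S.P.smul_right, S.P.sing_h H.1, S.P.sing_h H.2.1,
    hb.1, hb.2, S.P.perp_comm hb.1, S.P.perp_comm hb.2, H.2.2, H.fe, S.ε_one]
  refine ⟨?_, ?_, ?_⟩ <;> ring

theorem uMap_inj {e f : V} (H : S.P.Hyp e f) {a b : V} {s r : F} (ha : S.P.Perp e f a)
    (hb : S.P.Perp e f b) (h : f + a + s • e = f + b + r • e) : a = b ∧ s = r := by
  have h2 := congrArg (fun x => S.P.h x f) h
  simp only [(S.h_point H ha s).2.1, (S.h_point H hb r).2.1] at h2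
  subst h2
  exact ⟨add_left_cancel (add_right_cancel h), rfl⟩

variable [IsSimpleGroup W] [Finite W]

/-- An automorphism fixing a radical pointwise is inner. -/
theorem innerFix {e f : V} (H : S.P.Hyp e f)
    (hsing : (∀ c : F, S.P.τ c = c) ∨ ∀ x, S.P.h x x = 0 → S.P.Sing x) : InnerFix 2 W := by
  haveI : Fact (Nat.Prime 2) := ⟨Nat.prime_two⟩
  refine InnerFix.of_key (S.R e) (S.R_isPGroup 2 H) fun α _ hfix => ?_
  have Hs := S.hyp_swap H
  -- an element of the second radical moving the first point to an opposite one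
  obtain ⟨a1, s1, ha1, ha2, hv, hs⟩ := S.P.q0 Hs.1 Hs.2.1 Hs.2.2
  obtain ⟨u, hu⟩ := S.root Hs ⟨ha1, ha2⟩ hv
  set x := S.act u e with hxdef
  have hxe : S.P.h x e ≠ 0 := by
    rw [hxdef, hu, Hs.uMap_right ⟨ha1, ha2⟩, (S.h_point Hs ⟨ha1, ha2⟩ s1).2.1]
    exact hs
  obtain ⟨v, hv', c, hc, hxv⟩ := S.exists_rad_map H (S.sing_act u H.1) hxe
  have h01 : cj (S.pr u) (S.R e) = cj (S.pr v) (S.R f) := by
    rw [← S.R_act, ← hxdef, show x = c • S.act v f from hxv, S.R_smul hc, S.R_act]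
  obtain ⟨z, hz, hze⟩ := exists_cj (S.R e) (S.R f) _ (cj_inv_mul h01)
    (fun g hg => by
      obtain ⟨g, rfl⟩ := S.surj g
      rw [← S.R_act] at hg ⊢
      by_cases hge : S.P.h (S.act g e) e = 0
      · exfalso
        obtain ⟨z, hz, hz1, hzx⟩ := S.exists_fixing H (S.sing_act g H.1) hge
        refine hz1 (S.pr_eq_one H.ne_left hz (hg _ (Subgroup.mem_map_of_mem _ hz) ?_))
        rw [← S.R_act, hzx]
      · obtain ⟨z, hz, d, hd, hgz⟩ := S.exists_rad_map H (S.sing_act g H.1) hge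
        exact ⟨S.pr z, Subgroup.mem_map_of_mem _ hz, by rw [hgz, S.R_smul hd, S.R_act]⟩)
    (fun z hz h => S.eq_one_of_normalizes 2 H hz h) α hfix
  obtain ⟨gz, hgz, rfl⟩ := hz
  obtain ⟨a, s0, ha, -, hga⟩ := S.rad_eq H hgz
  suffices hD : ∀ b, S.P.Perp e f b → S.P.h b a = S.P.h a b by
    refine mem_range_of_central (S.R e) (S.R f) (fun z hz h => S.eq_one_of_normalizes 2 Hs hz h)
      (S.pr u) (Subgroup.mem_map_of_mem _ (S.mem_rad Hs ⟨ha1, ha2⟩ hu)) (S.pr v)
      (Subgroup.mem_map_of_mem _ hv') h01 (S.sup_eq_top H) α hfix _ ?_ hze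
    rintro _ ⟨g, hg, rfl⟩
    obtain ⟨b, r, hb, -, hgb⟩ := S.rad_eq H hg
    rw [← map_mul, ← map_mul]
    congr 1
    refine S.ext fun y => ?_
    rw [S.act_mul, S.act_mul, hga, hgb, H.uMap_mul ha hb, H.uMap_mul hb ha, hD b hb, add_comm a b,
      add_comm s0 r]
  rcases hsing with hτ | hsing
  · intro b _
    rw [S.P.swap a b, S.ε_one, one_mul, hτ]
  by_cases hτ : ∀ c : F, S.P.τ c = c
  · intro b _
    rw [S.P.swap a b, S.ε_one, one_mul, hτ]
  push Not at hτ
  obtain ⟨c0, hc0⟩ := hτ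
  set β : MulAut W := MulAut.conj (S.pr gz)⁻¹ * α with hβdef
  have hβe : ∀ g ∈ S.rad e, β (S.pr g) = S.pr (gz⁻¹ * g * gz) := fun g hg => by
    rw [hβdef, MulAut.mul_apply, hfix _ (Subgroup.mem_map_of_mem _ hg), MulAut.conj_apply, inv_inv,
      map_mul, map_mul, map_inv]
  have hmap : ∀ Q : Subgroup W, Q.map β.toMonoidHom = cj (S.pr gz)⁻¹ (Q.map α.toMonoidHom) := fun Q => by
    rw [cj, Subgroup.map_map]; rfl
  have hβR : (S.R e).map β.toMonoidHom = S.R e := by
    rw [hmap, map_eq_self hfix, ← map_inv, ← S.R_act, (inv_mem hgz : gz⁻¹ ∈ S.rad e).1]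
  have hβR' : (S.R f).map β.toMonoidHom = S.R f := by
    rw [hmap, hze, ← cj_mul, inv_mul_cancel, cj_one]
  -- the effect on a single element of the second radical
  have step : ∀ b t, S.P.Perp e f b → t ≠ 0 → S.P.τ t + S.P.h b b + t = 0 →
      ∃ v v', v ∈ S.rad f ∧ v' ∈ S.rad f ∧ β (S.pr v) = S.pr v' ∧ S.act v e = e + b + t • f ∧
        ∃ t', S.act v' e = e + (t' * t⁻¹) • b + t' • f ∧
          t' * (t⁻¹ + S.P.h (t⁻¹ • b) a - S.P.h a (t⁻¹ • b)) = 1 := by
    intro b t hb ht hbt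
    have hb' : S.P.Perp f e b := ⟨hb.2, hb.1⟩
    have hx0 : S.P.Sing (e + b + t • f) := hsing _ ((S.h_point Hs hb' t).2.2.trans hbt)
    obtain ⟨v, hv⟩ := S.root Hs hb' ((S.P.sing_iff t Hs.1 Hs.2.1 Hs.2.2 hb'.1 hb'.2).mp hx0)
    have hve : S.act v e = e + b + t • f := by rw [hv, Hs.uMap_right hb']
    have hvr := S.mem_rad Hs hb' hv
    have hb2 : S.P.Perp e f (t⁻¹ • b) := ⟨by rw [S.P.smul_left, hb.1, mul_zero],
      by rw [S.P.smul_left, hb.2, mul_zero]⟩
    have hy0 : t⁻¹ • (e + b + t • f) = f + t⁻¹ • b + t⁻¹ • e := by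
      rw [smul_add, smul_add, smul_smul, inv_mul_cancel₀ ht, one_smul]
      abel
    obtain ⟨g, hg⟩ := S.root H hb2
      ((S.P.sing_iff t⁻¹ H.1 H.2.1 H.2.2 hb2.1 hb2.2).mp (hy0 ▸ S.P.sing_smul _ hx0))
    have hgr := S.mem_rad H hb2 hg
    have hR : cj (S.pr v) (S.R e) = cj (S.pr g) (S.R f) := by
      rw [← S.R_act, ← S.R_act, hve, hg, H.uMap_right hb2, ← hy0, S.R_smul (inv_ne_zero ht)]
    obtain ⟨v', hv'r, hv'e⟩ := (hβR' ▸ Subgroup.mem_map_of_mem β.toMonoidHom
      (Subgroup.mem_map_of_mem S.pr hvr) : β (S.pr v) ∈ S.R f)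
    have hk : gz⁻¹ * g * gz ∈ S.rad e := mul_mem (mul_mem (inv_mem hgz) hgr) hgz
    set k := gz⁻¹ * g * gz with hkdef
    have hR' : cj (S.pr v') (S.R e) = cj (S.pr k) (S.R f) := by
      have := congrArg (fun Q : Subgroup W => Q.map β.toMonoidHom) hR
      simp only [map_cj, hβR, hβR'] at this
      rw [show β.toMonoidHom (S.pr v) = β (S.pr v) from rfl, ← hv'e,
        show β.toMonoidHom (S.pr g) = β (S.pr g) from rfl, hβe g hgr] at this
      exact this
    obtain ⟨a3, s3, ha3, -, hk3⟩ := S.rad_eq H hk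
    have hab : S.P.Perp e f (a + a3) :=
      ⟨by rw [S.P.add_left, ha.1, ha3.1, add_zero], by rw [S.P.add_left, ha.2, ha3.2, add_zero]⟩
    have hba : S.P.Perp e f (t⁻¹ • b + a) :=
      ⟨by rw [S.P.add_left, ha.1, hb2.1, add_zero], by rw [S.P.add_left, ha.2, hb2.2, add_zero]⟩
    have hkg := congrArg (fun k => S.act k f) (show gz * k = g * gz by rw [hkdef]; group)
    simp only [S.act_mul, hga, hk3, hg, H.uMap_mul ha ha3, H.uMap_mul hb2 ha, H.uMap_right hab,
      H.uMap_right hba] at hkg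
    obtain ⟨h3a, h3s⟩ := S.uMap_inj H hab hba hkg
    rw [add_comm a a3, add_right_cancel_iff] at h3a
    have hs3 : s3 = t⁻¹ + S.P.h (t⁻¹ • b) a - S.P.h a (t⁻¹ • b) := by
      rw [h3a] at h3s; linear_combination h3s
    obtain ⟨b', t', hb'', -, hv'2⟩ := S.rad_eq Hs hv'r
    have K : S.P.Hyp (S.act k f) (S.act k e) :=
      ⟨S.sing_act k Hs.1, S.sing_act k Hs.2.1, by rw [S.isom, Hs.2.2]⟩
    rw [← S.R_act, ← S.R_act] at hR'
    obtain ⟨c, hc⟩ := S.eq_of_R_eq 2 K (S.act_ne H.ne_left) (S.sing_act v' H.1) hR'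
    rw [hv'2, Hs.uMap_right hb'', hk3, H.uMap_right ha3] at hc
    have h1 := congrArg (fun y => S.P.h y e) hc
    have h2 := congrArg (fun y => S.P.h y f) hc
    simp only [S.P.smul_left, (S.h_point H ha3 s3).1, (S.h_point H ha3 s3).2.1, (S.h_point Hs hb'' t').1,
      (S.h_point Hs hb'' t').2.1, mul_one] at h1 h2
    subst h1
    refine ⟨v, v', hvr, hv'r, hv'e.symm, hve, t', ?_, by rw [← hs3]; exact h2.symm⟩
    rw [hv'2, Hs.uMap_right hb'', hc, h3a, smul_add, smul_add, smul_smul, smul_smul, ← h2, one_smul]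
    abel
  -- nonsingular vectors are orthogonal to the vector of the correcting element
  have key : ∀ b, S.P.Perp e f b → S.P.h b b ≠ 0 → S.P.h b a = 0 := by
    intro b hb hbb
    obtain ⟨t, ht⟩ := S.P.exists_val b
    have ht' : S.P.τ t + S.P.h b b + t = 0 := by
      rw [← (S.h_point H hb t).2.2]
      exact S.P.sing_h ((S.P.sing_iff t H.1 H.2.1 H.2.2 hb.1 hb.2).mpr ht)
    have ht0 : t ≠ 0 := fun h => hbb (by simpa [h] using ht')
    have ht10 : t + 1 ≠ 0 := fun h => hbb (by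
      rw [eq_neg_of_add_eq_zero_left h, CharTwo.neg_eq, map_one] at ht'
      linear_combination ht' - (CharTwo.two_eq_zero (R := F)))
    have hb0 : b ≠ 0 := fun h => hbb (by rw [h, S.P.zero_left])
    obtain ⟨w, w', hwr, hw'r, hw, hwe, t2, hw'e, ht2⟩ := step 0 1 (SForm.perp_zero e f) one_ne_zero
      (by rw [map_one, S.P.zero_left]; linear_combination (CharTwo.two_eq_zero (R := F)))
    simp only [smul_zero, S.P.zero_left, S.P.zero_right, inv_one, add_zero, sub_zero, mul_one] at ht2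
    subst ht2
    simp only [smul_zero, add_zero] at hwe hw'e
    obtain ⟨v, v', hvr, hv'r, hv, hve, t', hv'e, ht'1⟩ := step b t hb ht0 ht'
    obtain ⟨x, x', hxr, hx'r, hx, hxe, t'', hx'e, ht''1⟩ := step b (t + 1) hb ht10
      (by rw [map_add, map_one]; linear_combination ht' + (CharTwo.two_eq_zero (R := F)))
    have hprod : ∀ {g k : G}, g ∈ S.rad f → S.act k e = e + (1 : F) • f →
        S.act (g * k) e = S.act g e + (1 : F) • f := fun {g k} hg hk => by
      rw [S.act_mul, hk, map_add, map_smul, hg.1]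
    have hext : ∀ {g k : G}, g ∈ S.rad f → k ∈ S.rad f → S.act g e = S.act k e → g = k := by
      intro g k hg hk he
      refine (inv_mul_eq_one.mp (S.eq_one_of_fix Hs (mul_mem (inv_mem hk) hg) (c := 1) ?_)).symm
      rw [S.act_mul, he, S.act_inv_act, one_smul]
    have hxvw : x = v * w := hext hxr (mul_mem hvr hwr) (by
      rw [hprod hvr hwe, hxe, hve, add_smul]; abel)
    rw [hxvw, map_mul, map_mul, hv, hw, ← map_mul] at hx
    have h3 : v' * w' = x' := by
      have h0 : S.pr ((v' * w')⁻¹ * x') = 1 := by rw [map_mul, map_inv, hx, inv_mul_cancel]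
      exact inv_mul_eq_one.mp (S.pr_eq_one Hs.ne_left (mul_mem (inv_mem (mul_mem hv'r hw'r)) hx'r) h0)
    have h4 := congrArg (fun g => S.act g e) h3
    simp only [hprod hv'r hw'e, hv'e, hx'e] at h4
    have hpb : ∀ c : F, S.P.Perp f e (c • b) := fun c =>
      ⟨by rw [S.P.smul_left, hb.2, mul_zero], by rw [S.P.smul_left, hb.1, mul_zero]⟩
    obtain ⟨h5, h6⟩ := S.uMap_inj Hs (hpb (t' * t⁻¹)) (hpb (t'' * (t + 1)⁻¹))
      (s := t' + 1) (r := t'') (by rw [← h4, add_smul]; abel)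
    subst h6
    have h7 := smul_left_injective F hb0 h5
    field_simp at h7
    have h8 : t' = t := by linear_combination h7
    subst h8
    -- both corrections vanish
    rw [S.P.smul_left, S.P.smul_right, map_inv₀] at ht'1 ht''1
    have hτ0 : S.P.τ t' ≠ 0 := (map_ne_zero S.P.τ).mpr ht0
    have hτ1 : S.P.τ (t' + 1) ≠ 0 := (map_ne_zero S.P.τ).mpr ht10
    field_simp at ht'1 ht''1
    rw [map_add, map_one] at ht''1
    have h9 : S.P.h b a = S.P.h a b := by linear_combination ht''1 - ht'1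
    have h10 : S.P.h b b * S.P.h b a = 0 := by
      linear_combination S.P.h b a * ht' - ht'1 + t' * h9 - (t' * S.P.h b a) * (CharTwo.two_eq_zero (R := F))
    exact (mul_eq_zero.mp h10).resolve_left hbb
  -- hence that vector vanishes
  have ha0 : a = 0 := by
    by_contra ha0
    obtain ⟨b, hb, hab⟩ := H.perp_ne ha ha0
    have hba : S.P.h b a = 1 := by rw [S.P.swap, hab, map_one, mul_one, S.ε_one]
    have haa : S.P.h a a = 0 := by_contra fun h => h (key a ha h)
    obtain ⟨c, hc⟩ : ∃ c, S.P.h (b + c • a) (b + c • a) ≠ 0 := by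
      have he : ∀ c, S.P.h (b + c • a) (b + c • a) = S.P.h b b + S.P.τ c + c := fun c => by
        simp only [S.P.add_left, S.P.add_right, S.P.smul_left, S.P.smul_right, haa, hab, hba]
        ring
      by_cases hbb : S.P.h b b = 0
      · refine ⟨c0, fun h => hc0 ?_⟩
        rw [he, hbb, zero_add] at h
        rw [eq_neg_of_add_eq_zero_left h, CharTwo.neg_eq]
      · exact ⟨0, by rw [he]; simpa using hbb⟩
    have h := key (b + c • a) ⟨by rw [S.P.add_left, S.P.smul_left, hb.1, ha.1, mul_zero, add_zero],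
      by rw [S.P.add_left, S.P.smul_left, hb.2, ha.2, mul_zero, add_zero]⟩ hc
    rw [S.P.add_left, S.P.smul_left, haa, hba, mul_zero, add_zero] at h
    exact one_ne_zero h
  intro b _
  rw [ha0, S.P.zero_left, S.P.zero_right]

end SGeo

end CfsgLib.LieRigid
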