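import Cfsg.Agent.Lib.LieRigid.Classical
import Cfsg.Agent.Lib.InnerFix.Polar

/-!
Classical groups in characteristic two: automorphisms fixing a Sylow subgroup pointwise.
-/

set_option autoImplicit false
set_option linter.unusedSectionVars false

namespace CfsgLib.LieRigid

open CfsgLib.InnerFix

theorem innerFix_psp {F : Type} [Field F] [Fintype F] [CharP F 2] (m : ℕ) (hm : 1 ≤ m)
    [IsSimpleGroup (Cfsg.PSp m F)] : InnerFix 2 (Cfsg.PSp m F) := by
  haveI : Finite (Cfsg.PSp m F) := Finite.of_surjective _ (CfsgLib.PolarAut.spGeo F m).surj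
  obtain ⟨e, f, H⟩ := CfsgLib.PolarAut.sp_pair (F := F) hm
  exact (ofGeo (CfsgLib.PolarAut.spGeo F m)).innerFix (e := e) (f := f) ⟨H.ee, H.ff, H.ef⟩
    (Or.inr fun _ h => h)

theorem innerFix_psu {F : Type} [Field F] [Fintype F] [CharP F 2] {n q : ℕ}
    (hF : Fintype.card F = q ^ 2) (hn : 3 ≤ n) [IsSimpleGroup (Cfsg.PSU n F q)] :
    InnerFix 2 (Cfsg.PSU n F q) := by
  haveI : Finite (Cfsg.SU n F q) := Subtype.finite
  haveI : Finite (Cfsg.PSU n F q) := Quotient.finite _
  obtain ⟨e, f, H⟩ := CfsgLib.PolarAut.exists_pair hF (n := n) (by omega)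
  exact (ofGeo (CfsgLib.PolarAut.suGeo hF hn)).innerFix (e := e) (f := f) ⟨H.ee, H.ff, H.ef⟩
    (Or.inr fun _ h => h)

open QuadraticMap CfsgLib.WittExtension CfsgLib.Eichler in
open scoped commutatorElement in
theorem innerFix_pomega {F : Type} [Field F] [Fintype F] [CharP F 2] {ι : Type}
    [Fintype ι] [DecidableEq ι] (f : (ι → F) → F)
    (Q : QuadraticForm F (ι → F)) (hf : ∀ v, f v = Q v) (hQ : (polarBilin Q).Nondegenerate)
    (hn : 5 ≤ Fintype.card ι) [IsSimpleGroup (Cfsg.POmega F f)] :
    InnerFix 2 (Cfsg.POmega F f) := by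
  obtain rfl : f = ⇑Q := funext hf
  have hn' : 5 ≤ Module.finrank F (ι → F) := by rw [Module.finrank_fintype_fun_eq_card]; exact hn
  let i := CfsgLib.SpinorMatrix.isoEquiv Q
  have hmap : (Cfsg.Omega F ⇑Q).map i.toMonoidHom = commutator (quadIso Q) := by
    rw [show Cfsg.Omega F ⇑Q = commutator _ from rfl, _root_.commutator_def,
      _root_.commutator_def, Subgroup.map_commutator, Subgroup.map_top_of_surjective _ i.surjective]
  let i' : ↥(Cfsg.Omega F ⇑Q) ≃* ↥(commutator (quadIso Q)) :=
    (i.subgroupMap _).trans (MulEquiv.subgroupCongr hmap)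
  haveI : Finite ↥(commutator (quadIso Q)) :=
    Finite.of_injective (fun g => ((g.1.1 : (ι → F) ≃ₗ[F] (ι → F)) : (ι → F) → (ι → F)))
      (fun g g' h => Subtype.ext (Subtype.ext (LinearEquiv.ext (congrFun h))))
  haveI : Finite ↥(Cfsg.Omega F ⇑Q) := Finite.of_equiv _ i'.symm.toEquiv
  haveI : Finite (Cfsg.POmega F ⇑Q) := Quotient.finite _
  let S : SGeo F (ι → F) ↥(commutator (quadIso Q)) (Cfsg.POmega F ⇑Q) :=
    { P := orthForm Q hQ hn'
      act := LinearEquiv.automorphismGroup.toLinearMapMonoidHom.comp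
        ((quadIso Q).subtype.comp (commutator (quadIso Q)).subtype)
      act_inj := fun A A' h => Subtype.ext (Subtype.ext (LinearEquiv.toLinearMap_injective h))
      isom := fun A x y => by
        show polar Q (A.1.1 x) (A.1.1 y) = polar Q x y
        simp only [polar, ← map_add, A.1.2 _]
      sing_act := fun A x hx => (A.1.2 x).trans hx
      root := fun {e f a s} H ha hv => by
        have hea : polar Q e a = 0 := by rw [polar_comm]; exact ha.1
        obtain ⟨g, hg⟩ := exists_eich Q H.1 hea
        have hmem : g ∈ commutator (quadIso Q) := by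
          rw [OmegaSimple.commutator_eq Q hQ hn']
          exact OmegaSimple.eich_mem Q hQ hn' H.ne_left H.1 hea hg
        refine ⟨⟨g, hmem⟩, LinearMap.ext fun x => ?_⟩
        show g.1 x = x + ((1 : F) * polar Q x e) • (a + s • e) - polar Q x a • e
        rw [hg x, show s = -Q a from eq_neg_of_add_eq_zero_right hv, polar_comm Q e x, polar_comm Q a x]
        module
      pr := (QuotientGroup.mk' _).comp i'.symm.toMonoidHom
      surj := (QuotientGroup.mk'_surjective _).comp i'.symm.surjective
      ker := fun g hg => by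
        have hc : i'.symm g ∈ Subgroup.center ↥(Cfsg.Omega F ⇑Q) := (QuotientGroup.eq_one_iff _).mp hg
        obtain ⟨c, -, hc'⟩ := CfsgLib.OmegaCenter.central_scalar Q hQ hn' g.1 fun a b => by
          have hab : ⁅a, b⁆ ∈ commutator (quadIso Q) :=
            Subgroup.commutator_mem_commutator (Subgroup.mem_top a) (Subgroup.mem_top b)
          have := congrArg i' (Subgroup.mem_center_iff.mp hc (i'.symm ⟨_, hab⟩))
          rw [map_mul, map_mul, i'.apply_symm_apply, i'.apply_symm_apply] at this
          exact (congrArg Subtype.val this).symm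
        exact ⟨c, hc'⟩ }
  obtain ⟨e, he0, he⟩ := CfsgLib.FiniteForms.exists_singular Q (by omega)
  obtain ⟨f, hf', hef⟩ := S.P.hyp he0 (he : S.P.Sing e)
  exact S.innerFix (e := e) (f := f) ⟨he, hf', hef⟩ (Or.inl fun _ => rfl)

end CfsgLib.LieRigid
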